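import Groth.Agent.GLTensLib.Tpow
import Groth.Agent.ComodLib.Slices
import Mathlib.LinearAlgebra.Matrix.MvPolynomial
import Mathlib.RingTheory.Localization.FractionRing
import Mathlib.Algebra.MvPolynomial.Basic
import Mathlib.Algebra.MvPolynomial.Eval
import Mathlib.RingTheory.MvPolynomial.Basic

/-! Facts about the coordinate ring of `GL_r`. -/

noncomputable section

open TensorProduct CoordGrp MvPolynomial LaurentPolynomial

namespace GLTensLib

universe u

variable {r : ℕ} {k : Type u} [Field k]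

variable (r k) in
/-- Polynomials in the entries, as functions on `GL_r`. -/
def entries : MvPolynomial (Fin r × Fin r) k →ₐ[k] GLn r k :=
  MvPolynomial.aeval fun p => GLn.X p.1 p.2

lemma entries_det : entries r k (Matrix.mvPolynomialX (Fin r) (Fin r) k).det = GLn.det := by
  rw [GLn.det_eq, AlgHom.map_det]
  congr 1
  ext i j
  simp [entries, GLn.genMat, Matrix.mvPolynomialX_apply]

lemma entries_injective : Function.Injective (entries r k) := by
  let K := FractionRing (MvPolynomial (Fin r × Fin r) k)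
  let M : Matrix (Fin r) (Fin r) K :=
    (IsScalarTower.toAlgHom k (MvPolynomial (Fin r × Fin r) k) K).mapMatrix
      (Matrix.mvPolynomialX (Fin r) (Fin r) k)
  have hM : M.det ≠ 0 := by
    rw [← AlgHom.map_det]
    exact fun h => Matrix.det_mvPolynomialX_ne_zero (Fin r) k
      ((FaithfulSMul.algebraMap_injective _ K) (h.trans (map_zero _).symm))
  have h : (GLn.pt r k M M.det⁻¹ (mul_inv_cancel₀ hM)).comp (entries r k) =
      IsScalarTower.toAlgHom k (MvPolynomial (Fin r × Fin r) k) K := by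
    refine MvPolynomial.algHom_ext fun p => ?_
    simp [entries, M, Matrix.mvPolynomialX_apply]
  intro x y hxy
  exact FaithfulSMul.algebraMap_injective (MvPolynomial (Fin r × Fin r) k) K
    ((DFunLike.congr_fun h x).symm.trans ((congrArg _ hxy).trans (DFunLike.congr_fun h y)))

lemma exists_rep_raise {x : GLn r k} {q : MvPolynomial (Fin r × Fin r) k} {N : ℕ}
    (h : x = entries r k q * GLn.Dinv ^ N) {M : ℕ} (hM : N ≤ M) :
    ∃ q', x = entries r k q' * GLn.Dinv ^ M := by
  obtain ⟨e, rfl⟩ := Nat.exists_eq_add_of_le hM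
  refine ⟨q * (Matrix.mvPolynomialX (Fin r) (Fin r) k).det ^ e, ?_⟩
  rw [map_mul, map_pow, entries_det, h, pow_add]
  have : (GLn.det : GLn r k) ^ e * GLn.Dinv ^ e = 1 := by
    rw [← mul_pow, GLn.det_mul_Dinv, one_pow]
  linear_combination (-(entries r k q) * GLn.Dinv ^ N) * this

lemma exists_rep (x : GLn r k) :
    ∃ (N : ℕ) (q : MvPolynomial (Fin r × Fin r) k), x = entries r k q * GLn.Dinv ^ N := by
  obtain ⟨y, rfl⟩ := Ideal.Quotient.mk_surjective x
  let φ : MvPolynomial (GLPoly.Idx r) k →ₐ[k] GLn r k := GLn.mk r k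
  suffices H : ∀ y, ∃ (N : ℕ) (q : MvPolynomial (Fin r × Fin r) k),
      φ y = entries r k q * GLn.Dinv ^ N from H y
  intro y
  induction y using MvPolynomial.induction_on with
  | C c =>
    refine ⟨0, MvPolynomial.C c, ?_⟩
    rw [pow_zero, mul_one, ← MvPolynomial.algebraMap_eq, ← MvPolynomial.algebraMap_eq,
      AlgHom.commutes, AlgHom.commutes]
  | add p q hp hq =>
    obtain ⟨N, p', hp⟩ := hp
    obtain ⟨M, q', hq⟩ := hq
    obtain ⟨p'', hp''⟩ := exists_rep_raise hp (le_max_left N M)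
    obtain ⟨q'', hq''⟩ := exists_rep_raise hq (le_max_right N M)
    refine ⟨max N M, p'' + q'', ?_⟩
    rw [map_add (entries r k), add_mul, ← hp'', ← hq'', map_add]
  | mul_X p s hp =>
    obtain ⟨N, p', hp⟩ := hp
    cases s with
    | inl ij =>
      refine ⟨N, p' * MvPolynomial.X ij, ?_⟩
      have h1 : φ (MvPolynomial.X (Sum.inl ij)) = GLn.X ij.1 ij.2 := rfl
      rw [map_mul φ, hp, h1, map_mul (entries r k), entries, MvPolynomial.aeval_X]
      ring
    | inr u =>
      refine ⟨N + 1, p', ?_⟩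
      have h1 : φ (MvPolynomial.X (Sum.inr u)) = GLn.Dinv := rfl
      rw [map_mul φ, hp, h1, pow_succ, ← mul_assoc]

variable (r k) in
/-- Restriction along left translation by the scalars. -/
def scal : GLn r k →ₐ[k] GLn r k ⊗[k] k[T;T⁻¹] :=
  (Algebra.TensorProduct.map (AlgHom.id k (GLn r k))
    (GLn.diag r k (fun _ => 1) : GLn r k →ₐ[k] k[T;T⁻¹])).comp (Bialgebra.comulAlgHom k (GLn r k))

lemma scal_apply (x : GLn r k) : scal r k x =
    ((GLn.diag r k (fun _ => 1) : GLn r k →ₐc[k] k[T;T⁻¹]) : GLn r k →ₗ[k] k[T;T⁻¹]).lTensor _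
      (CoalgebraStruct.comul x) := rfl

lemma scal_X (i j : Fin r) : scal r k (GLn.X i j) = GLn.X i j ⊗ₜ[k] T 1 := by
  rw [scal_apply, GLn.comul_X, map_sum, Finset.sum_eq_single j]
  · rw [LinearMap.lTensor_tmul]
    exact congrArg _ ((GLn.diag_X _ j j).trans (if_pos rfl))
  · intro l _ hl
    rw [LinearMap.lTensor_tmul]
    exact (congrArg _ ((GLn.diag_X _ l j).trans (if_neg hl))).trans (TensorProduct.tmul_zero _ _)
  · exact fun h => absurd (Finset.mem_univ j) h

lemma scal_Dinv : scal r k (GLn.Dinv : GLn r k) = GLn.Dinv ⊗ₜ[k] T (-(r : ℤ)) := by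
  rw [scal_apply, GLn.comul_Dinv, LinearMap.lTensor_tmul]
  refine congrArg _ ((GLn.diag_Dinv _).trans ?_)
  simp

lemma scal_mono {a : ℕ} (I J : Fin a → Fin r) :
    scal r k (mono I J) = mono I J ⊗ₜ[k] T (a : ℤ) := by
  induction a with
  | zero => simp [mono, Algebra.TensorProduct.one_def]
  | succ n ih =>
    have : mono (k := k) I J = mono (fun l => I l.castSucc) (fun l => J l.castSucc) *
        GLn.X (I (Fin.last n)) (J (Fin.last n)) := by
      simp [mono, Fin.prod_univ_castSucc]
    rw [this, map_mul, ih, scal_X, Algebra.TensorProduct.tmul_mul_tmul, ← T_add, Nat.cast_succ]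

lemma scal_Dinv_pow (N : ℕ) :
    scal r k ((GLn.Dinv : GLn r k) ^ N) = ((GLn.Dinv : GLn r k) ^ N) ⊗ₜ[k] T (-((r : ℤ) * N)) := by
  induction N with
  | zero => simp [Algebra.TensorProduct.one_def]
  | succ n ih =>
    rw [pow_succ, map_mul, ih, scal_Dinv, Algebra.TensorProduct.tmul_mul_tmul, ← T_add]
    congr 2
    push_cast
    ring

lemma exists_sum_single {σ : Type*} : ∀ (a : ℕ) (d : σ →₀ ℕ), d.degree = a →
    ∃ P : Fin a → σ, ∑ l, Finsupp.single (P l) 1 = d
  | 0, d, h => ⟨Fin.elim0, by rw [(Finsupp.degree_eq_zero_iff d).1 h]; simp⟩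
  | a + 1, d, h => by
    classical
    obtain ⟨p, hp⟩ := Finsupp.support_nonempty_iff.2 fun h0 : d = 0 => by simp [h0] at h
    have hp' : Finsupp.single p 1 ≤ d := by
      rw [Finsupp.single_le_iff]
      exact Nat.one_le_iff_ne_zero.2 (Finsupp.mem_support_iff.1 hp)
    have hd : d - Finsupp.single p 1 + Finsupp.single p 1 = d := tsub_add_cancel_of_le hp'
    obtain ⟨P, hP⟩ := exists_sum_single a (d - Finsupp.single p 1) (by
      have := congrArg Finsupp.degree hd
      rw [map_add, Finsupp.degree_single, h] at this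
      omega)
    refine ⟨Fin.snoc (α := fun _ => σ) P p, ?_⟩
    simp [Fin.sum_univ_castSucc, hP, hd]

lemma exists_mono_eq {a : ℕ} (d : Fin r × Fin r →₀ ℕ) (h : d.degree = a) :
    ∃ I J : Fin a → Fin r, entries r k (monomial d 1) = mono I J := by
  obtain ⟨P, rfl⟩ := exists_sum_single a d h
  refine ⟨fun l => (P l).1, fun l => (P l).2, ?_⟩
  rw [monomial_sum_one, map_prod, mono]
  exact Finset.prod_congr rfl fun l _ => MvPolynomial.aeval_X _ _

variable (r k) in
/-- The span of the degree `a` monomials times `Dinv ^ N`. -/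
def degSpan (a N : ℕ) : Submodule k (GLn r k) :=
  Submodule.span k
    (Set.range fun p : (Fin a → Fin r) × (Fin a → Fin r) => mono p.1 p.2 * GLn.Dinv ^ N)

lemma mem_degSpan_of_scal {x : GLn r k} {h : ℤ} {N : ℕ} {q : MvPolynomial (Fin r × Fin r) k}
    (hq : x = entries r k q * GLn.Dinv ^ N) (hx : scal r k x = x ⊗ₜ[k] T h) :
    x ∈ degSpan r k (h + r * N).toNat N := by
  classical
  let f : k[T;T⁻¹] →ₗ[k] k :=
    Finsupp.lapply h ∘ₗ (AddMonoidAlgebra.coeffLinearEquiv (R := k) (S := k) (M := ℤ)).toLinearMap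
  have hf : ∀ n : ℤ, f (T n) = if n = h then 1 else 0 := fun n => T_apply h n
  have hsum : x = ∑ d ∈ q.support,
      q.coeff d • (entries r k (monomial d 1) * GLn.Dinv ^ N) := by
    conv_lhs => rw [hq, q.as_sum, map_sum, Finset.sum_mul]
    refine Finset.sum_congr rfl fun d _ => ?_
    rw [← smul_mul_assoc, ← map_smul, MvPolynomial.smul_monomial, smul_eq_mul, mul_one]
  have hd : ∀ d : Fin r × Fin r →₀ ℕ,
      ComodLib.slice f (scal r k (entries r k (monomial d 1) * GLn.Dinv ^ N)) =
        (if (d.degree : ℤ) - r * N = h then (1 : k) else 0) •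
          (entries r k (monomial d 1) * GLn.Dinv ^ N) := by
    intro d
    obtain ⟨I, J, he⟩ := exists_mono_eq (k := k) d rfl
    rw [he, map_mul, scal_mono, scal_Dinv_pow, Algebra.TensorProduct.tmul_mul_tmul, ← T_add,
      ComodLib.slice_tmul, hf, sub_eq_add_neg]
  have hx' : x = ComodLib.slice f (scal r k x) := by
    rw [hx, ComodLib.slice_tmul, hf, if_pos rfl, one_smul]
  rw [hx', hsum, map_sum, map_sum]
  refine Submodule.sum_mem _ fun d _ => ?_
  rw [map_smul, map_smul, hd]
  refine Submodule.smul_mem _ _ ?_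
  split_ifs with hdeg
  · rw [one_smul]
    obtain ⟨I, J, he⟩ := exists_mono_eq (k := k) (a := (h + r * N).toNat) d (by omega)
    rw [he]
    exact Submodule.subset_span ⟨(I, J), rfl⟩
  · rw [zero_smul]; exact zero_mem _

end GLTensLib

end
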