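import Groth.Agent.GLTensLib.Coord
import Groth.Agent.ComodLib.Dual
import Groth.Prelude.Def_Hoch
import Mathlib.Analysis.InnerProductSpace.PiL2
import Mathlib.LinearAlgebra.StdBasis
import Mathlib.Analysis.Complex.Basic

/-! Homogeneous representations of `GL_r(ℂ)` are summands of twisted tensor powers. -/

noncomputable section

open TensorProduct CoordGrp WithConv ComodLib
open scoped ComplexConjugate InnerProductSpace

namespace GLTensLib

/-- A module over a `ℂ`-algebra that is closed under adjoints is semisimple. -/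
theorem isSemisimpleModule_of_adjoint {R : Type*} [Ring R] [Algebra ℂ R] {E : Type*}
    [AddCommGroup E] [Module ℂ E] [Module R E] [IsScalarTower ℂ R E] [SMulCommClass ℂ R E]
    {N : Type*} [Fintype N] (e : Module.Basis N ℂ E)
    (h : ∀ f : R, ∃ g : R, ∀ i j, e.repr (g • e i) j = conj (e.repr (f • e j) i)) :
    IsSemisimpleModule R E := by
  rw [isSemisimpleModule_iff]
  refine ⟨fun U => ?_⟩
  let L : E ≃ₗ[ℂ] EuclideanSpace ℂ N := e.equivFun ≪≫ₗ (WithLp.linearEquiv 2 ℂ (N → ℂ)).symm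
  have hL : ∀ x i, (L x) i = e.repr x i := fun x i => rfl
  let U' : Submodule ℂ (EuclideanSpace ℂ N) := (U.restrictScalars ℂ).map (L : E →ₗ[ℂ] _)
  have hrepr : ∀ (f : R) (x : E) (i : N),
      e.repr (f • x) i = ∑ j, e.repr x j * e.repr (f • e j) i := by
    intro f x i
    conv_lhs => rw [← e.sum_repr x, Finset.smul_sum, map_sum, Finsupp.finsetSum_apply]
    refine Finset.sum_congr rfl fun j _ => ?_
    rw [smul_comm f (e.repr x j), map_smul, Finsupp.smul_apply, smul_eq_mul]
  let T : Submodule R E :=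
    { carrier := {x | L x ∈ U'ᗮ}
      add_mem' := fun {x y} hx hy => by
        simp only [Set.mem_ofPred_eq, map_add] at hx hy ⊢; exact add_mem hx hy
      zero_mem' := by simp
      smul_mem' := fun f x hx => by
        obtain ⟨g, hg⟩ := h f
        simp only [Set.mem_ofPred_eq, Submodule.mem_orthogonal] at hx ⊢
        rintro _ ⟨u, hu, rfl⟩
        have h0 := hx (L (g • u)) ⟨g • u, U.smul_mem g hu, rfl⟩
        refine Eq.trans ?_ h0
        simp only [LinearEquiv.coe_coe, PiLp.inner_apply, hL, RCLike.inner_apply]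
        rw [Finset.sum_congr rfl fun i (_ : i ∈ Finset.univ) =>
            congrArg (· * conj (e.repr u i)) (hrepr f x i),
          Finset.sum_congr rfl fun j (_ : j ∈ Finset.univ) =>
            congrArg (fun z => e.repr x j * conj z) (hrepr g u j)]
        simp only [hg, map_sum, map_mul, Complex.conj_conj, Finset.sum_mul, Finset.mul_sum]
        rw [Finset.sum_comm]
        exact Finset.sum_congr rfl fun i _ => Finset.sum_congr rfl fun j _ => by ring }
  refine ⟨T, ?_⟩
  rw [← Submodule.isCompl_restrictScalars_iff ℂ]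
  have h1 : U.restrictScalars ℂ = U'.comap (L : E →ₗ[ℂ] EuclideanSpace ℂ N) :=
    (Submodule.comap_map_eq_of_injective L.injective _).symm
  have h2 : T.restrictScalars ℂ = U'ᗮ.comap (L : E →ₗ[ℂ] EuclideanSpace ℂ N) := rfl
  rw [h1, h2]
  exact (Submodule.orderIsoMapComap L).symm.isCompl (Submodule.isCompl_orthogonal (K := U'))

variable (r : ℕ)

/-- The twisted tensor power representation. -/
@[reducible] def comodE (a b c : ℕ) :
    HopfRep.Comod ℂ (GLn r ℂ) (Fin b → TensorPower ℂ a (Fin r → ℂ)) :=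
  ComodTens.Comod.twist
    (ComodTens.Comod.pi fun _ : Fin b =>
      ComodTens.Comod.tpow (GLin.comodAlong (Mat.toGLn r ℂ) (ComodTens.stdVec r ℂ)) a)
    (GLn.Dinv ^ c) (IsGroupLikeElem.pow ⟨GLn.counit_Dinv, GLn.comul_Dinv⟩)

/-- The basis of the twisted tensor power representation. -/
def basisE (a b : ℕ) : Module.Basis (Σ _ : Fin b, Fin a → Fin r) ℂ
    (Fin b → TensorPower ℂ a (Fin r → ℂ)) :=
  Pi.basis fun _ => Basis.piTensorProduct fun _ : Fin a => Pi.basisFun ℂ (Fin r)

lemma basisE_apply {a b : ℕ} (x : Σ _ : Fin b, Fin a → Fin r) :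
    basisE r a b x = Pi.single x.1 (vecTens x.2) := by
  obtain ⟨β, J⟩ := x
  rw [basisE, Pi.basis_apply, Basis.piTensorProduct_apply]
  simp only [Pi.basisFun_apply]
  rfl

lemma comodE_coact {a b c : ℕ} (β : Fin b) (J : Fin a → Fin r) :
    (comodE r a b c).coact (basisE r a b ⟨β, J⟩) =
      ∑ I, basisE r a b ⟨β, I⟩ ⊗ₜ[ℂ] (mono I J * GLn.Dinv ^ c) := by
  rw [basisE_apply, ComodTens.twist_coact, ComodTens.pi_coact_single]
  rw [show (ComodTens.Comod.tpow (GLin.comodAlong (Mat.toGLn r ℂ) (ComodTens.stdVec r ℂ)) a).coact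
    (vecTens J) = ∑ I, vecTens (k := ℂ) I ⊗ₜ[ℂ] mono I J from tpow_coact J, map_sum, map_sum]
  refine Finset.sum_congr rfl fun I _ => ?_
  rw [LinearMap.rTensor_tmul, LinearMap.lTensor_tmul, basisE_apply]
  rfl

lemma exists_adjoint (a b c : ℕ) (f : Dual' ℂ (GLn r ℂ)) :
    letI := comodE r a b c
    ∃ g : Dual' ℂ (GLn r ℂ), ∀ i j : Σ _ : Fin b, Fin a → Fin r,
      (basisE r a b).repr (g • basisE r a b i) j =
        conj ((basisE r a b).repr (f • basisE r a b j) i) := by
  let := comodE r a b c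
  let ι : MvPolynomial (Fin r × Fin r) ℂ →ₗ[ℂ] GLn r ℂ :=
    LinearMap.mulRight ℂ (GLn.Dinv ^ c) ∘ₗ (entries r ℂ).toLinearMap
  have hι : Function.Injective ι := by
    intro p q hpq
    refine entries_injective (IsUnit.mul_right_cancel (IsUnit.pow c ?_) hpq)
    exact IsUnit.of_mul_eq_one_right _ GLn.det_mul_Dinv
  obtain ⟨π, hπ⟩ := LinearMap.exists_leftInverse_of_injective ι (LinearMap.ker_eq_bot.2 hι)
  let f' : MvPolynomial (Fin r × Fin r) ℂ →ₗ[ℂ] ℂ :=
    (MvPolynomial.basisMonomials (Fin r × Fin r) ℂ).constr ℂ fun d =>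
      conj (f.ofConv (ι (MvPolynomial.monomial (d.mapDomain Prod.swap) 1)))
  have hf' : ∀ I J : Fin a → Fin r, (f' ∘ₗ π) (mono I J * GLn.Dinv ^ c) =
      conj (f.ofConv (mono J I * GLn.Dinv ^ c)) := by
    intro I J
    have he : ∀ I J : Fin a → Fin r, ι (MvPolynomial.monomial (∑ l, Finsupp.single (I l, J l) 1) 1) =
        mono I J * GLn.Dinv ^ c := by
      intro I J
      show entries r ℂ _ * _ = _
      rw [MvPolynomial.monomial_sum_one, map_prod, mono]
      exact congrArg (· * _) (Finset.prod_congr rfl fun l _ => MvPolynomial.aeval_X _ _)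
    rw [← he I J, LinearMap.comp_apply, ← LinearMap.comp_apply π ι, hπ, LinearMap.id_apply]
    have : MvPolynomial.monomial (∑ l, Finsupp.single (I l, J l) 1) (1 : ℂ) =
        MvPolynomial.basisMonomials (Fin r × Fin r) ℂ (∑ l, Finsupp.single (I l, J l) 1) := by
      rw [MvPolynomial.coe_basisMonomials]
    rw [this, Module.Basis.constr_basis, Finsupp.mapDomain_finsetSum, ← he J I]
    simp only [Finsupp.mapDomain_single, Prod.swap_prod_mk]
  have hsmul : ∀ (f : Dual' ℂ (GLn r ℂ)) (β : Fin b) (J : Fin a → Fin r),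
      f • basisE r a b ⟨β, J⟩ =
        ∑ I, f.ofConv (mono I J * GLn.Dinv ^ c) • basisE r a b ⟨β, I⟩ := by
    intro f β J
    rw [smul_eq, show HopfRep.Comod.coact (k := ℂ) (A := GLn r ℂ) (basisE r a b ⟨β, J⟩) = _ from
      comodE_coact r β J, map_sum]
    exact Finset.sum_congr rfl fun I _ => slice_tmul _ _ _
  refine ⟨toConv (f' ∘ₗ π), ?_⟩
  rintro ⟨β, I⟩ ⟨β', J⟩
  classical
  have hexp : ∀ (f : Dual' ℂ (GLn r ℂ)) (β β' : Fin b) (I J : Fin a → Fin r),
      (basisE r a b).repr (f • basisE r a b ⟨β, J⟩) ⟨β', I⟩ =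
        if β' = β then f.ofConv (mono I J * GLn.Dinv ^ c) else 0 := by
    intro f β β' I J
    rw [hsmul, map_sum, Finsupp.finsetSum_apply]
    simp only [map_smul, Module.Basis.repr_self, Finsupp.smul_apply, Finsupp.single_apply,
      smul_eq_mul, mul_ite, mul_one, mul_zero]
    rcases eq_or_ne β' β with rfl | hne
    · rw [if_pos rfl, Finset.sum_eq_single I]
      · rw [if_pos rfl]
      · intro L _ hL
        rw [if_neg]
        simpa using hL
      · exact fun h => absurd (Finset.mem_univ I) h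
    · rw [if_neg hne]
      refine Finset.sum_eq_zero fun L _ => if_neg ?_
      simp [hne.symm]
  rw [hexp, hexp]
  rcases eq_or_ne β' β with rfl | hne
  · rw [if_pos rfl, if_pos rfl]
    exact hf' J I
  · rw [if_neg hne, if_neg hne.symm, map_zero]

lemma isSemisimpleModule_E (a b c : ℕ) :
    letI := comodE r a b c
    IsSemisimpleModule (Dual' ℂ (GLn r ℂ)) (Fin b → TensorPower ℂ a (Fin r → ℂ)) := by
  let := comodE r a b c
  exact isSemisimpleModule_of_adjoint (basisE r a b) (exists_adjoint r a b c)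

variable {r} {V : Type} [AddCommGroup V] [Module ℂ V] [Module.Finite ℂ V]

open LaurentPolynomial in
omit [Module.Finite ℂ V] in
lemma scal_coeff (ρ : HopfRep.Comod ℂ (GLn r ℂ) V) {h : ℤ}
    (hh : @HopfRep.eigenspace ℂ ℂ[T;T⁻¹] _ _ _ V _ _
      (GLin.comodAlong (GLn.diag r ℂ (fun _ => 1)) ρ) (T h) = ⊤) (γ : V →ₗ[ℂ] ℂ) (v : V) :
    scal r ℂ (coeff (A := GLn r ℂ) γ v) = coeff (A := GLn r ℂ) γ v ⊗ₜ[ℂ] T h := by
  let := ρ
  have hv : TensorProduct.map LinearMap.id
      ((GLn.diag r ℂ (fun _ => 1) : GLn r ℂ →ₐc[ℂ] ℂ[T;T⁻¹]) : GLn r ℂ →ₗ[ℂ] ℂ[T;T⁻¹])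
      (ρ.coact v) = v ⊗ₜ[ℂ] T h := SetLike.ext_iff.1 hh v |>.2 Submodule.mem_top
  have hc := LinearMap.congr_fun (isComodHom_restrictScalars (coeff (A := GLn r ℂ) γ)) v
  simp only [LinearMap.comp_apply, LinearMap.restrictScalars_apply] at hc
  rw [scal_apply]
  refine (congrArg _ hc).trans ?_
  rw [ComodTens.lTensor_rTensor_comm]
  refine (congrArg _ hv).trans ?_
  rfl

open LaurentPolynomial in
set_option backward.isDefEq.respectTransparency false in
theorem exists_summand (ρ : HopfRep.Comod ℂ (GLn r ℂ) V) {h : ℤ}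
    (hh : @HopfRep.eigenspace ℂ ℂ[T;T⁻¹] _ _ _ V _ _
      (GLin.comodAlong (GLn.diag r ℂ (fun _ => 1)) ρ) (LaurentPolynomial.T h) = ⊤) :
    ∃ (a b c : ℕ), 0 < c ∧
      ∃ (i : V →ₗ[ℂ] (Fin b → TensorPower ℂ a (Fin r → ℂ)))
        (p : (Fin b → TensorPower ℂ a (Fin r → ℂ)) →ₗ[ℂ] V),
        p ∘ₗ i = LinearMap.id ∧
        @Hoch.IsComodHom ℂ _ (GLn r ℂ) _ _ _ V _ _ ρ (Fin b → TensorPower ℂ a (Fin r → ℂ)) _ _
          (comodE r a b c) i ∧
        @Hoch.IsComodHom ℂ _ (GLn r ℂ) _ _ _ (Fin b → TensorPower ℂ a (Fin r → ℂ)) _ _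
          (comodE r a b c) V _ _ ρ p := by
  classical
  let := ρ
  let v := Module.finBasis ℂ V
  have hex := fun i j => exists_rep (coeff (A := GLn r ℂ) (v.coord i) (v j))
  choose N q hq using hex
  let c := (∑ i, ∑ j, N i j) + 1
  let a := (h + r * c).toNat
  let b := Fintype.card (Fin (Module.finrank ℂ V) × (Fin a → Fin r))
  let σ : Fin b ≃ Fin (Module.finrank ℂ V) × (Fin a → Fin r) := (Fintype.equivFin _).symm
  have hS : ∀ i (x : V), coeff (A := GLn r ℂ) (v.coord i) x ∈ degSpan r ℂ a c := by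
    intro i x
    have : ∀ j, coeff (A := GLn r ℂ) (v.coord i) (v j) ∈ degSpan r ℂ a c := by
      intro j
      have hN : N i j ≤ c := le_add_right <|
        (Finset.single_le_sum (fun _ _ => Nat.zero_le _) (Finset.mem_univ j)).trans
          (Finset.single_le_sum (f := fun i => ∑ j, N i j) (fun _ _ => Nat.zero_le _)
            (Finset.mem_univ i))
      obtain ⟨q', hq'⟩ := exists_rep_raise (hq i j) hN
      exact mem_degSpan_of_scal hq' (scal_coeff ρ hh _ _)
    have hle : (⊤ : Submodule ℂ V) ≤ (degSpan r ℂ a c).comap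
        ((coeff (A := GLn r ℂ) (v.coord i)).restrictScalars ℂ) := by
      rw [← v.span_eq, Submodule.span_le]
      rintro _ ⟨j, rfl⟩
      exact this j
    exact hle (Submodule.mem_top (x := x))
  let := comodE r a b c
  have : IsSemisimpleModule (Dual' ℂ (GLn r ℂ)) (Fin b → TensorPower ℂ a (Fin r → ℂ)) :=
    isSemisimpleModule_E r a b c
  let γ : Fin (Module.finrank ℂ V) → (Fin b → TensorPower ℂ a (Fin r → ℂ)) →ₗ[ℂ] ℂ := fun i =>
    (basisE r a b).constr ℂ fun x => if σ x.1 = (i, x.2) then 1 else 0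
  let P := LinearMap.pi fun i => coeff (A := GLn r ℂ) (γ i)
  let φ : V →ₗ[Dual' ℂ (GLn r ℂ)] (Fin (Module.finrank ℂ V) → GLn r ℂ) :=
    LinearMap.pi fun i => coeff (A := GLn r ℂ) (v.coord i)
  have hP : ∀ (β : Fin b) (J : Fin a → Fin r) i, P (basisE r a b ⟨β, J⟩) i =
      if (σ β).1 = i then mono (σ β).2 J * GLn.Dinv ^ c else 0 := by
    intro β J i
    show coeff (A := GLn r ℂ) (γ i) _ = _
    rw [coeff_apply, show HopfRep.Comod.coact (k := ℂ) (A := GLn r ℂ) (basisE r a b ⟨β, J⟩) = _ from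
      comodE_coact r β J, map_sum]
    simp only [sliceL_tmul, γ, Module.Basis.constr_basis, ite_smul, one_smul, zero_smul]
    rcases eq_or_ne (σ β).1 i with rfl | hne
    · rw [if_pos rfl, Finset.sum_eq_single (σ β).2]
      · exact if_pos rfl
      · intro L _ hL
        exact if_neg fun e => hL (congrArg Prod.snd e).symm
      · exact fun h => absurd (Finset.mem_univ _) h
    · rw [if_neg hne]
      exact Finset.sum_eq_zero fun L _ => if_neg fun e => hne (congrArg Prod.fst e)
  have hrange : ∀ x, φ x ∈ LinearMap.range P := by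
    intro x
    have hsingle : ∀ i, ∀ y ∈ degSpan r ℂ a c,
        (Pi.single i y : Fin (Module.finrank ℂ V) → GLn r ℂ) ∈
          (LinearMap.range P).restrictScalars ℂ := by
      intro i y hy
      refine (Submodule.span_le.2 ?_ : degSpan r ℂ a c ≤ ((LinearMap.range P).restrictScalars ℂ).comap
        (LinearMap.single ℂ (fun _ => GLn r ℂ) i)) hy
      rintro _ ⟨⟨I, J⟩, rfl⟩
      refine ⟨basisE r a b ⟨σ.symm (i, I), J⟩, funext fun j => ?_⟩
      rw [hP, σ.apply_symm_apply]
      simp [Pi.single_apply, eq_comm]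
    rw [← Finset.univ_sum_single (φ x)]
    exact Submodule.sum_mem _ fun i _ => hsingle i _ (hS i x)
  obtain ⟨Q, hQ⟩ := exists_isCompl (LinearMap.ker P)
  have hPinj : Function.Injective (P ∘ₗ Q.subtype) := by
    refine (injective_iff_map_eq_zero _).2 fun x hx => Subtype.ext ?_
    exact (Submodule.disjoint_def.1 hQ.disjoint) x hx x.2
  have hPr : LinearMap.range P ≤ LinearMap.range (P ∘ₗ Q.subtype) := by
    rintro _ ⟨x, rfl⟩
    obtain ⟨y, hy, z, hz, rfl⟩ :=
      Submodule.mem_sup.1 (hQ.sup_eq_top ▸ Submodule.mem_top : x ∈ LinearMap.ker P ⊔ Q)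
    exact ⟨⟨z, hz⟩, by rw [map_add, LinearMap.mem_ker.1 hy, zero_add]; rfl⟩
  let s : V →ₗ[Dual' ℂ (GLn r ℂ)] (Fin b → TensorPower ℂ a (Fin r → ℂ)) :=
    Q.subtype ∘ₗ (LinearEquiv.ofInjective _ hPinj).symm.toLinearMap ∘ₗ
      LinearMap.codRestrict _ φ fun x => hPr (hrange x)
  have hs : ∀ x, P (s x) = φ x := fun x =>
    congrArg Subtype.val ((LinearEquiv.ofInjective _ hPinj).apply_symm_apply
      (LinearMap.codRestrict _ φ (fun x => hPr (hrange x)) x))
  have hinj : Function.Injective s := by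
    refine (injective_iff_map_eq_zero s).2 fun x hx => v.ext_elem fun i => ?_
    have h1 : φ x = 0 := by
      rw [← hs x, hx, map_zero]
    rw [map_zero, Finsupp.zero_apply, ← Module.Basis.coord_apply, ← counit_coeff (A := GLn r ℂ) (v.coord i) x,
      show coeff (A := GLn r ℂ) (v.coord i) x = 0 from congrFun h1 i, map_zero]
  obtain ⟨p, hp⟩ := IsSemisimpleModule.extension_property (R := Dual' ℂ (GLn r ℂ)) s hinj
    LinearMap.id
  refine ⟨a, b, c, Nat.succ_pos _, s.restrictScalars ℂ, p.restrictScalars ℂ,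
    LinearMap.ext fun x => LinearMap.congr_fun hp x, isComodHom_restrictScalars s,
    isComodHom_restrictScalars p⟩

end GLTensLib

end
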