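import Groth.Prelude.Def_ComodTens
import Groth.Prelude.Def_GLin5
import Mathlib.LinearAlgebra.PiTensorProduct.Basis
import Mathlib.Data.Fin.Tuple.Basic

/-! The coaction of `GL_r` on tensor powers of the standard representation. -/

noncomputable section

open TensorProduct CoordGrp

namespace GLTensLib

universe u

variable {r : ℕ} {k : Type u} [CommRing k]

/-- The tensor of standard basis vectors indexed by `J`. -/
def vecTens {a : ℕ} (J : Fin a → Fin r) : TensorPower k a (Fin r → k) :=
  PiTensorProduct.tprod k fun l => Pi.single (J l) (1 : k)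

variable (r k) in
/-- The standard comodule of the general linear group. -/
@[reducible] def stdGL : HopfRep.Comod k (GLn r k) (Fin r → k) :=
  GLin.comodAlong (Mat.toGLn r k) (ComodTens.stdVec r k)

/-- The monomial `∏ X (I l) (J l)`. -/
def mono {a : ℕ} (I J : Fin a → Fin r) : GLn r k := ∏ l, GLn.X (I l) (J l)

lemma stdGL_coact_single (i : Fin r) :
    (stdGL r k).coact (Pi.single i 1) = ∑ j, (Pi.single j (1 : k)) ⊗ₜ[k] GLn.X j i := by
  show TensorProduct.map LinearMap.id _ ((ComodTens.stdVec r k).coact (Pi.single i 1)) = _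
  rw [ComodTens.stdVec_coact_single, map_sum]
  exact Finset.sum_congr rfl fun j _ => by
    rw [TensorProduct.map_tmul]; exact congrArg _ (Mat.toGLn_X j i)

lemma vecTens_snoc {a : ℕ} (J : Fin a → Fin r) (i : Fin r) :
    TensorPower.mulEquiv (vecTens (k := k) J ⊗ₜ[k]
      (PiTensorProduct.subsingletonEquiv (R := k) (s := fun _ : Fin 1 => Fin r → k) (0 : Fin 1)).symm
        (Pi.single i 1)) = vecTens (Fin.snoc (α := fun _ => Fin r) J i) := by
  rw [PiTensorProduct.subsingletonEquiv_symm_apply', ← TensorPower.gMul_def, vecTens,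
    TensorPower.tprod_mul_tprod, Fin.append_right_eq_snoc, vecTens]
  refine congrArg _ (funext fun l => ?_)
  refine Fin.lastCases ?_ (fun l => ?_) l
  · simp
  · simp

lemma mono_snoc {a : ℕ} (I J : Fin a → Fin r) (i j : Fin r) :
    mono (k := k) (Fin.snoc (α := fun _ => Fin r) I i) (Fin.snoc (α := fun _ => Fin r) J j) =
      mono I J * GLn.X i j := by
  simp [mono, Fin.prod_univ_castSucc]

lemma tpow_coact : ∀ {a : ℕ} (J : Fin a → Fin r),
    (ComodTens.Comod.tpow (stdGL r k) a).coact (vecTens J) =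
      ∑ I : Fin a → Fin r, vecTens (k := k) I ⊗ₜ[k] mono I J := by
  intro a
  induction a with
  | zero =>
    intro J
    have hJ : ∀ I : Fin 0 → Fin r, vecTens (k := k) I =
        (PiTensorProduct.isEmptyEquiv (Fin 0) (R := k) (s := fun _ : Fin 0 => Fin r → k)).symm 1 :=
      fun I => by
        rw [LinearEquiv.eq_symm_apply, vecTens, PiTensorProduct.isEmptyEquiv_apply_tprod]
    rw [Fintype.sum_unique, hJ J, ComodTens.tpow_zero, ComodTens.ofEquiv_coact_apply]
    have : (HopfRep.Comod.trivial k (GLn r k) k).coact (1 : k) = (1 : k) ⊗ₜ[k] (1 : GLn r k) := rfl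
    rw [this, LinearMap.rTensor_tmul, hJ, mono, Fin.prod_univ_zero]
    rfl
  | succ n ih =>
    intro J
    obtain ⟨⟨j, J⟩, rfl⟩ := (Fin.snocEquiv fun _ : Fin (n + 1) => Fin r).surjective J
    show (ComodTens.Comod.tpow (stdGL r k) (n + 1)).coact
      (vecTens (Fin.snoc (α := fun _ => Fin r) J j)) = _
    rw [← vecTens_snoc, ComodTens.tpow_succ, ComodTens.ofEquiv_coact_apply]
    have h1 : (ComodTens.Comod.tpowOne (stdGL r k)).coact
        ((PiTensorProduct.subsingletonEquiv (R := k) (s := fun _ : Fin 1 => Fin r → k) (0 : Fin 1)).symm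
          (Pi.single j 1)) =
        ∑ i, (PiTensorProduct.subsingletonEquiv (R := k) (s := fun _ : Fin 1 => Fin r → k)
          (0 : Fin 1)).symm (Pi.single i 1) ⊗ₜ[k] GLn.X i j := by
      rw [ComodTens.ofEquiv_coact_apply, stdGL_coact_single, map_sum]
      exact Finset.sum_congr rfl fun i _ => by rw [LinearMap.rTensor_tmul]; rfl
    rw [ComodTens.tensor_coact_tmul_of_sum _ _ Finset.univ Finset.univ _ _ _ _ _ _ (ih J) h1]
    simp only [map_sum]
    rw [Finset.sum_comm, ← Fintype.sum_prod_type',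
      ← (Fin.snocEquiv fun _ : Fin (n + 1) => Fin r).sum_comp]
    refine Finset.sum_congr rfl fun x _ => ?_
    rw [LinearMap.rTensor_tmul]
    show TensorPower.mulEquiv _ ⊗ₜ[k] _ = vecTens (Fin.snoc (α := fun _ => Fin r) x.2 x.1) ⊗ₜ[k]
      mono (Fin.snoc (α := fun _ => Fin r) x.2 x.1) (Fin.snoc (α := fun _ => Fin r) J j)
    rw [vecTens_snoc, mono_snoc]

end GLTensLib

end
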